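import Groth.Agent.Lib.VA.Tensor
import Groth.Agent.Lib.IdealModSec.Basic
import Groth.Agent.Lib.InvExt.Gen
import Groth.Agent.Lib.GrNoeth9.Basic
import Groth.Agent.Lib.GrTilde.Mul

/-!
# A line subbundle with divisor `δ`
-/

set_option autoImplicit false
set_option linter.all false
set_option backward.isDefEq.respectTransparency false
set_option maxHeartbeats 1000000

universe u

open CategoryTheory CategoryTheory.Limits AlgebraicGeometry TopologicalSpace Opposite
open GrothLib.InvExt GrothLib.IdealModSec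

noncomputable section

namespace GrothLib.RibBlow10

variable {X : Scheme.{u}}

theorem hom_eq_zero_of_gens {F G : X.Modules} (g : F ⟶ G) {ι : Type*} (V : ι → X.Opens)
    (hcov : ∀ x, ∃ i, x ∈ V i) (e : ∀ i, Γ(F, V i)) (he : ∀ i, IsGen F (V i) (e i))
    (h : ∀ i, g.app (V i) (e i) = 0) : g = 0 := by
  refine Scheme.Modules.hom_ext _ _ fun W => AddCommGrpCat.ext fun s => ?_
  show g.app W s = 0
  refine TopCat.Sheaf.eq_of_locally_eq' ⟨G.presheaf, G.isSheaf⟩ (fun i => W ⊓ V i) W
    (fun i => homOfLE inf_le_left) (fun x hx => by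
      obtain ⟨i, hi⟩ := hcov x
      exact Opens.mem_iSup.2 ⟨i, hx, hi⟩) _ _ fun i => ?_
  obtain ⟨c, hc⟩ := (he i).exists_smul_eq (inf_le_right : W ⊓ V i ≤ V i) (mres F inf_le_left s)
  refine ((ConcreteCategory.congr_hom (g.mapPresheaf.naturality (homOfLE (inf_le_left : W ⊓ V i ≤ W)).op) s).symm.trans
    ?_).trans (map_zero _).symm
  show g.app (W ⊓ V i) (mres F inf_le_left s) = 0
  rw [hc, Scheme.Modules.Hom.app_smul]
  have h2 : g.app (W ⊓ V i) (mres F inf_le_right (e i)) = mres G inf_le_right (g.app (V i) (e i)) :=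
    ConcreteCategory.congr_hom (g.mapPresheaf.naturality (homOfLE (inf_le_right : W ⊓ V i ≤ V i)).op) (e i)
  rw [h2, h i]
  exact (congrArg (c • ·) (map_zero (G.presheaf.map (homOfLE (inf_le_right : W ⊓ V i ≤ V i)).op).hom)).trans (smul_zero c)

theorem mono_of_gens {F G : X.Modules} (g : F ⟶ G) {ι : Type*} (V : ι → X.Opens)
    (hcov : ∀ x, ∃ i, x ∈ V i) (e : ∀ i, Γ(F, V i)) (he : ∀ i, IsGen F (V i) (e i))
    (h : ∀ (i) (W : X.Opens) (hW : W ≤ V i) (c : Γ(X, W)), c • mres G hW (g.app (V i) (e i)) = 0 → c = 0) :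
    Mono g := by
  refine Preadditive.mono_of_kernel_zero (Scheme.Modules.hom_ext _ _ fun W => AddCommGrpCat.ext fun s => ?_)
  show (kernel.ι g).app W s = 0
  have h0 : g.app W ((kernel.ι g).app W s) = 0 := congr($(kernel.condition g).app W s)
  generalize (kernel.ι g).app W s = t at h0
  refine TopCat.Sheaf.eq_of_locally_eq' ⟨F.presheaf, F.isSheaf⟩ (fun i => W ⊓ V i) W
    (fun i => homOfLE inf_le_left) (fun x hx => by
      obtain ⟨i, hi⟩ := hcov x
      exact Opens.mem_iSup.2 ⟨i, hx, hi⟩) _ _ fun i => ?_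
  refine Eq.trans ?_ (map_zero (F.presheaf.map (homOfLE (inf_le_left : W ⊓ V i ≤ W)).op).hom).symm
  show mres F inf_le_left t = 0
  obtain ⟨c, hc⟩ := (he i).exists_smul_eq (inf_le_right : W ⊓ V i ≤ V i) (mres F inf_le_left t)
  have h1 : g.app (W ⊓ V i) (mres F inf_le_left t) = 0 :=
    (ConcreteCategory.congr_hom (g.mapPresheaf.naturality (homOfLE (inf_le_left : W ⊓ V i ≤ W)).op) t).trans
      ((congrArg (mres G inf_le_left) h0).trans (map_zero _))
  rw [hc, Scheme.Modules.Hom.app_smul] at h1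
  have h2 : g.app (W ⊓ V i) (mres F inf_le_right (e i)) = mres G inf_le_right (g.app (V i) (e i)) :=
    ConcreteCategory.congr_hom (g.mapPresheaf.naturality (homOfLE (inf_le_right : W ⊓ V i ≤ V i)).op) (e i)
  rw [h2] at h1
  rw [hc, h i _ _ c h1, zero_smul]

theorem exists_iso_of_mono {A B L : X.Modules} (μ : A ⟶ L) (κ : B ⟶ L) [Mono μ] [Mono κ]
    (h₁ : κ ≫ cokernel.π μ = 0) (h₂ : μ ≫ cokernel.π κ = 0) : Nonempty (B ≅ A) :=
  ⟨{ hom := Abelian.monoLift μ κ h₁
     inv := Abelian.monoLift κ μ h₂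
     hom_inv_id := by rw [← cancel_mono κ, Category.assoc, Abelian.monoLift_comp, Abelian.monoLift_comp, Category.id_comp]
     inv_hom_id := by rw [← cancel_mono μ, Category.assoc, Abelian.monoLift_comp, Abelian.monoLift_comp, Category.id_comp] }⟩

variable (δ : X.IdealSheafData) (L : X.Modules)

/-- `x ⊗ d ↦ d x`. -/
def mulPairing : FinCov.Pairing L (ClSub.idealMod δ) L where
  f U m n := val δ U n • m
  add_left U m m' n := smul_add _ _ _
  smul_left U r m n := smul_comm _ _ _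
  add_right U m n n' := by
    have : val δ U (n + n') = val δ U n + val δ U n' := map_add ((ClSub.idealModι δ).app U).hom n n'
    rw [this, add_smul]
  smul_right U r m n := by rw [val_smul, mul_smul]
  map {U V} i m n := by
    show mres L i.le (val δ U n • m) = val δ V (mres _ i.le n) • mres L i.le m
    rw [val_mres, InvExt.mres_smul]

theorem mulPairing_hom_tm (U : X.Opens) (m : Γ(L, U)) (n : Γ(ClSub.idealMod δ, U)) :
    (mulPairing δ L).hom.app U (VA.tm m n) = val δ U n • m :=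
  FinCov.Pairing.hom_tmul (mulPairing δ L) U m n

theorem smul_val_injective {V : X.Opens} {e' : Γ(L, V)} (he' : IsGen L V e')
    {d : Γ(ClSub.idealMod δ, V)} (hd : IsGen (ClSub.idealMod δ) V d) {W : X.Opens} (hW : W ≤ V) (c : Γ(X, W))
    (h : c • mres L hW (val δ V d • e') = 0) : c = 0 := by
  rw [InvExt.mres_smul, smul_smul] at h
  have h1 : c * fres X hW (val δ V d) = 0 := he'.smul_left_injective hW (h.trans (zero_smul _ _).symm)
  refine hd.smul_left_injective hW (val_injective δ W ?_)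
  rw [val_smul, val_smul, val_mres, h1, zero_mul]

/-- A map of line bundles with divisor `δ`. -/
theorem nonempty_iso_tensor {L' B : X.Modules} (κ : B ⟶ L') {ι : Type*} (V : ι → X.Opens)
    (hcov : ∀ x, ∃ i, x ∈ V i) (e : ∀ i, Γ(B, V i)) (he : ∀ i, IsGen B (V i) (e i))
    (e' : ∀ i, Γ(L', V i)) (he' : ∀ i, IsGen L' (V i) (e' i))
    (d : ∀ i, Γ(ClSub.idealMod δ, V i)) (hd : ∀ i, IsGen (ClSub.idealMod δ) (V i) (d i))
    (hκ : ∀ i, κ.app (V i) (e i) = val δ (V i) (d i) • e' i)
    (M : X.Modules) (hM : ClSub.IsInverseOf M (ClSub.idealMod δ)) :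
    Nonempty (L' ≅ CohB1.tensorMod B M) := by
  let μ := (mulPairing δ L').hom
  have hμ : ∀ i, μ.app (V i) (VA.tm (e' i) (d i)) = val δ (V i) (d i) • e' i := fun i =>
    mulPairing_hom_tm δ L' _ _ _
  have hT : ∀ i, IsGen (CohB1.tensorMod L' (ClSub.idealMod δ)) (V i) (VA.tm (e' i) (d i)) := fun i =>
    VA.isGen_tm (he' i) (hd i)
  haveI : Mono μ := mono_of_gens μ V hcov _ hT fun i W hW c h => by
    rw [hμ] at h
    exact smul_val_injective δ L' (he' i) (hd i) hW c h
  haveI : Mono κ := mono_of_gens κ V hcov _ he fun i W hW c h => by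
    rw [hκ] at h
    exact smul_val_injective δ L' (he' i) (hd i) hW c h
  have h1 : κ ≫ cokernel.π μ = 0 := hom_eq_zero_of_gens _ V hcov _ he fun i => by
    show (cokernel.π μ).app (V i) (κ.app (V i) (e i)) = 0
    rw [hκ, ← hμ]
    exact congr($(cokernel.condition μ).app (V i) (VA.tm (e' i) (d i)))
  have h2 : μ ≫ cokernel.π κ = 0 := hom_eq_zero_of_gens _ V hcov _ hT fun i => by
    show (cokernel.π κ).app (V i) (μ.app (V i) (VA.tm (e' i) (d i))) = 0
    rw [hμ, ← hκ]
    exact congr($(cokernel.condition κ).app (V i) (e i))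
  obtain ⟨φ⟩ := exists_iso_of_mono μ κ h1 h2
  obtain ⟨hM⟩ := hM
  exact ⟨(GrNoeth9.untwistIso L' (GrTilde.tensorModComm _ _ ≪≫ hM)).symm ≪≫
    ((DCoh.tensorBi (X := X)).mapIso φ.symm).app M⟩

end GrothLib.RibBlow10
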