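import Groth.Agent.Lib.SqZero11.Lift

/-!
# Generators of the conormal sheaf of a square-zero thickening
-/

set_option autoImplicit false
set_option linter.all false
set_option backward.isDefEq.respectTransparency false
set_option maxHeartbeats 1000000

universe u

open CategoryTheory CategoryTheory.Limits AlgebraicGeometry TopologicalSpace Opposite
open GrothLib.InvExt GrothLib.IdealModSec

noncomputable section

namespace GrothLib.RibBlow10

variable {D C : Scheme.{u}} (i : D ⟶ C) [IsClosedImmersion i]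

theorem conormalSect_smul (U : C.Opens) (a : Γ(C, U)) (m : Γ(ClSub.idealMod i.ker, U)) :
    OmegaSh.conormalSect i U (a • m) = i.app U a • OmegaSh.conormalSect i U m :=
  (Scheme.Modules.Hom.app_smul _ a m).trans rfl

theorem conormalSect_mres {U W : C.Opens} (h : W ≤ U) (m : Γ(ClSub.idealMod i.ker, U)) :
    OmegaSh.conormalSect i W (mres (ClSub.idealMod i.ker) h m) =
      mres (Omega.conormal i) (i.preimage_mono h) (OmegaSh.conormalSect i U m) :=
  SqZero11.pullSect_map' i (ClSub.idealMod i.ker) h m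

theorem isGen_conormalSect (hI : i.ker ^ 2 = ⊥) (U : C.affineOpens) (g : Γ(ClSub.idealMod i.ker, U.1))
    (hz : i.ker.ideal U = Ideal.span {val i.ker U.1 g})
    (hann : ∀ a : Γ(C, U.1), a * val i.ker U.1 g ^ (2 - 1) = 0 → a ∈ i.ker.ideal U) :
    IsGen (Omega.conormal i) (i ⁻¹ᵁ U.1) (OmegaSh.conormalSect i U.1 g) := by
  let M := Omega.conormal i
  have hbasic : ∀ f : Γ(C, U.1), Function.Bijective fun c : Γ(D, i ⁻¹ᵁ C.basicOpen f) =>
      c • mres M (i.preimage_mono (C.basicOpen_le f)) (OmegaSh.conormalSect i U.1 g) := by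
    intro f
    let T : C.affineOpens := C.affineBasicOpen f
    have hTU : T.1 ≤ U.1 := C.basicOpen_le f
    letI := (C.presheaf.map (homOfLE hTU).op).hom.toAlgebra
    haveI : IsLocalization (Submonoid.powers f) Γ(C, T.1) := by
      haveI := U.2.isLocalization_basicOpen f
      exact this
    have hIT : i.ker.ideal T = Ideal.span {fres C hTU (val i.ker U.1 g)} := by
      rw [← i.ker.map_ideal (U := T) (V := U) hTU, hz, Ideal.map_span, Set.image_singleton]
      rfl
    suffices h : Function.Bijective fun c : Γ(D, i ⁻¹ᵁ T.1) => c • OmegaSh.conormalSect i T.1 (mres _ hTU g) by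
      rw [conormalSect_mres i hTU g] at h
      exact h
    refine ⟨fun c d hcd => ?_, fun m => ?_⟩
    · obtain ⟨c, rfl⟩ := i.app_surjective T.1 T.2 c
      obtain ⟨d, rfl⟩ := i.app_surjective T.1 T.2 d
      simp only [← conormalSect_smul] at hcd
      have hv := congrArg (val i.ker T.1) ((SqZero11.conormalSect_bijective i hI T.1).1 hcd)
      rw [val_smul, val_smul, val_mres] at hv
      have hsub : c - d ∈ i.ker.ideal T := by
        obtain ⟨⟨a, ⟨_, n, rfl⟩⟩, ha⟩ := IsLocalization.surj (Submonoid.powers f) (c - d)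
        have hz0 : algebraMap Γ(C, U.1) Γ(C, T.1) (a * val i.ker U.1 g) = 0 := by
          rw [map_mul, ← ha]
          show _ * fres C hTU (val i.ker U.1 g) = 0
          linear_combination (fres C hTU (f ^ n)) * hv
        obtain ⟨⟨_, m, rfl⟩, hm⟩ := (IsLocalization.map_eq_zero_iff (Submonoid.powers f) Γ(C, T.1) _).1 hz0
        have hmem : f ^ m * a ∈ i.ker.ideal U := hann _ (by
          rw [Nat.add_one_sub_one, pow_one, mul_assoc]; exact hm)
        have hmap : algebraMap Γ(C, U.1) Γ(C, T.1) (f ^ m * a) ∈ i.ker.ideal T := by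
          rw [← i.ker.map_ideal (U := T) (V := U) hTU]
          exact Ideal.mem_map_of_mem _ hmem
        rw [map_mul, ← ha] at hmap
        have hu : ∀ j : ℕ, IsUnit (algebraMap Γ(C, U.1) Γ(C, T.1) (f ^ j)) := fun j =>
          IsLocalization.map_units Γ(C, T.1) (⟨f ^ j, j, rfl⟩ : Submonoid.powers f)
        rw [Ideal.unit_mul_mem_iff_mem _ (hu m), Ideal.mul_unit_mem_iff_mem _ (hu n)] at hmap
        exact hmap
      rw [Scheme.Hom.ker_apply] at hsub
      rw [RingHom.mem_ker, map_sub, sub_eq_zero] at hsub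
      exact hsub
    · obtain ⟨k, rfl⟩ := (SqZero11.conormalSect_bijective i hI T.1).2 m
      obtain ⟨c, hc⟩ := Ideal.mem_span_singleton'.1 (hIT ▸ val_mem i.ker T k)
      refine ⟨i.app T.1 c, ?_⟩
      dsimp only
      rw [← conormalSect_smul]
      congr 1
      exact val_injective i.ker T.1 (by rw [val_smul, val_mres]; exact hc)
  intro W hW
  obtain ⟨O, hO, hOW⟩ := i.isClosedEmbedding.isInducing.isOpen_iff.1 W.2
  let κ := {f : Γ(C, U.1) // (C.basicOpen f : Set C) ⊆ O}
  let T : κ → D.Opens := fun f => i ⁻¹ᵁ C.basicOpen f.1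
  have hTW : ∀ f, T f ≤ W := fun f z hz => (Set.ext_iff.1 hOW z).1 (f.2 hz)
  have hcov : W ≤ ⨆ f, T f := fun z hz => by
    have hzO : i z ∈ (⟨O, hO⟩ : C.Opens) :=
      (Set.ext_iff.1 hOW z).2 hz
    obtain ⟨f, hf, hzf⟩ := U.2.exists_basicOpen_le ⟨i z, hzO⟩ (hW hz)
    exact Opens.mem_iSup.2 ⟨⟨f, hf⟩, hzf⟩
  let e := OmegaSh.conormalSect i U.1 g
  have hb : ∀ f, Function.Bijective fun c : Γ(D, T f) => c • mres M ((hTW f).trans hW) e :=
    fun f => hbasic f.1
  have hinj : ∀ (V : D.Opens) (hV : V ≤ W) (c d : Γ(D, V)),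
      c • mres M (hV.trans hW) e = d • mres M (hV.trans hW) e → c = d := fun V hV c d hcd => by
    refine D.sheaf.eq_of_locally_eq' (fun f : κ => T f ⊓ V) V (fun f => homOfLE inf_le_right) ?_ c d
      fun f => ?_
    · intro z hz
      obtain ⟨f, hf⟩ := Opens.mem_iSup.1 (hcov (hV hz))
      exact Opens.mem_iSup.2 ⟨f, hf, hz⟩
    · have := congrArg (mres M (inf_le_right : T f ⊓ V ≤ V)) hcd
      simp only [InvExt.mres_smul, InvExt.mres_mres] at this
      refine D.sheaf.eq_of_locally_eq'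
        (fun f' : {f' : Γ(C, U.1) // (C.basicOpen f' : Set C) ⊆ O ∧ T f ⊓ V ≥ i ⁻¹ᵁ C.basicOpen f'} =>
          i ⁻¹ᵁ C.basicOpen f'.1) (T f ⊓ V) (fun f' => homOfLE f'.2.2) ?_ _ _ fun f' => ?_
      · intro z hz
        obtain ⟨O', hO', hOV⟩ := i.isClosedEmbedding.isInducing.isOpen_iff.1 (T f ⊓ V).2
        have hzO' : i z ∈ (⟨O ∩ O', hO.inter hO'⟩ : C.Opens) :=
          ⟨(Set.ext_iff.1 hOW z).2 (hTW f hz.1), (Set.ext_iff.1 hOV z).2 hz⟩
        obtain ⟨f', hf', hzf'⟩ := U.2.exists_basicOpen_le ⟨i z, hzO'⟩ (hW (hTW f hz.1))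
        refine Opens.mem_iSup.2 ⟨⟨f', fun w hw => (hf' hw).1, fun w hw => ?_⟩, hzf'⟩
        exact (Set.ext_iff.1 hOV w).1 (hf' hw).2
      · refine (hbasic f'.1).1 ?_
        have h2 := congrArg (mres M f'.2.2) this
        simp only [InvExt.mres_smul, InvExt.mres_mres] at h2
        exact h2
  refine ⟨fun c d => hinj W le_rfl c d, fun m => ?_⟩
  choose c hc using fun f => (hb f).2 (mres M (hTW f) m)
  obtain ⟨s, hs, -⟩ := D.sheaf.existsUnique_gluing' T W (fun f => homOfLE (hTW f)) hcov c (by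
    intro i j
    refine hinj _ (inf_le_left.trans (hTW i)) _ _ ?_
    have hi := congrArg (mres M (inf_le_left : T i ⊓ T j ≤ T i)) (hc i)
    have hj := congrArg (mres M (inf_le_right : T i ⊓ T j ≤ T j)) (hc j)
    simp only [InvExt.mres_smul, InvExt.mres_mres] at hi hj
    exact hi.trans hj.symm)
  let s' : Γ(D, W) := s
  refine ⟨s', TopCat.Sheaf.eq_of_locally_eq' ⟨M.presheaf, M.isSheaf⟩ T W (fun f => homOfLE (hTW f)) hcov _ _
    fun f => ?_⟩
  show mres M (hTW f) (s' • mres M hW e) = mres M (hTW f) m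
  rw [InvExt.mres_smul, InvExt.mres_mres, ← hc f]
  congr 1
  exact hs f

end GrothLib.RibBlow10
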