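import Groth.Agent.Lib.Nagata6.Charts
import Groth.Agent.Lib.BlowPB8.Chart
import Groth.Agent.Lib.SqZero11.Conormal

/-!
# Charts of the blow-up of a ribbon along a divisor
-/

set_option autoImplicit false
set_option linter.all false
set_option backward.isDefEq.respectTransparency false
set_option maxHeartbeats 1000000

universe u

open CategoryTheory CategoryTheory.Limits AlgebraicGeometry TopologicalSpace Opposite
open GrothLib.InvExt

noncomputable section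

namespace GrothLib.RibBlow10

variable {C : Scheme.{u}} (I : C.IdealSheafData) (δ : I.subscheme.IdealSheafData)

/-- The centre. -/
abbrev centre : C.IdealSheafData := (δ.subschemeι ≫ I.subschemeι).ker

theorem centre_ideal (U : C.affineOpens) :
    (centre I δ).ideal U = (δ.ideal ⟨I.subschemeι ⁻¹ᵁ U.1, U.2.preimage _⟩).comap (I.subschemeι.app U.1).hom := by
  rw [Scheme.Hom.ker_apply, Scheme.Hom.comp_app,
    ← δ.ker_subschemeι_app ⟨I.subschemeι ⁻¹ᵁ U.1, U.2.preimage _⟩]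
  rfl

theorem centre_comap : (centre I δ).comap I.subschemeι = δ := by
  refine Scheme.IdealSheafData.ext_of_iSup_eq_top
    (fun U : C.affineOpens => ⟨I.subschemeι ⁻¹ᵁ U.1, U.2.preimage _⟩)
    (TopologicalSpace.IsOpenCover.comap (iSup_affineOpens_eq_top _) _) fun U => ?_
  rw [GrothLib.BlowUp.ideal_comap_eq_map (centre I δ) I.subschemeι U ⟨_, U.2.preimage _⟩ le_rfl,
    centre_ideal, ← Scheme.Hom.app_eq_appLE]
  exact Ideal.map_comap_of_surjective _ (I.subschemeι.app_surjective U.1 U.2) _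

/-- An affine open on which the ideal of the ribbon and the divisor are principal. -/
structure Pair where
  U : C.affineOpens
  z : Γ(C, U.1)
  f : Γ(C, U.1)
  hz : I.ideal U = Ideal.span {z}
  ann : ∀ a : Γ(C, U.1), a * z = 0 → a ∈ I.ideal U
  nzd : I.subschemeι.app U.1 f ∈ nonZeroDivisors Γ(I.subscheme, I.subschemeι ⁻¹ᵁ U.1)
  hf : δ.ideal ⟨I.subschemeι ⁻¹ᵁ U.1, U.2.preimage _⟩ = Ideal.span {I.subschemeι.app U.1 f}

theorem exists_pair (hI : I ^ 2 = ⊥) (hP : MultCurve.IsPrincipalOfOrder I 2)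
    (hδ : _root_.BlowUp.IsEffCartierIdeal δ) (x : C) : ∃ P : Pair I δ, x ∈ P.U.1 := by
  obtain ⟨U₁, hxU, z, hz, hann⟩ := hP x
  obtain ⟨y, rfl⟩ := SqZero11.surjective_subschemeι I hI x
  obtain ⟨W, hyW, g, hgn, hg⟩ := hδ y
  obtain ⟨O, hO, hOW⟩ := I.subschemeι.isClosedEmbedding.isInducing.isOpen_iff.1 W.1.2
  obtain ⟨s, hs, hys⟩ := U₁.2.exists_basicOpen_le ⟨I.subschemeι y,
    show I.subschemeι y ∈ (⟨O, hO⟩ : C.Opens) from (Set.ext_iff.1 hOW y).2 hyW⟩ hxU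
  let U : C.affineOpens := C.affineBasicOpen s
  have hU1 : U.1 ≤ U₁.1 := C.basicOpen_le s
  let W' : I.subscheme.affineOpens := ⟨I.subschemeι ⁻¹ᵁ U.1, U.2.preimage _⟩
  have hW' : W'.1 ≤ W.1 := fun w hw => (Set.ext_iff.1 hOW w).1 (hs hw)
  obtain ⟨f, hf⟩ := I.subschemeι.app_surjective U.1 U.2 (fres _ hW' g)
  letI := (C.presheaf.map (homOfLE hU1).op).hom.toAlgebra
  haveI : IsLocalization (Submonoid.powers s) Γ(C, U.1) := U₁.2.isLocalization_basicOpen s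
  have hz' : I.ideal U = Ideal.span {fres C hU1 z} := by
    rw [← I.map_ideal (U := U) (V := U₁) hU1, hz, Ideal.map_span, Set.image_singleton]
    rfl
  refine ⟨{ U := U, z := fres C hU1 z, f := f, hz := hz', ann := fun a ha => ?_, nzd := ?_, hf := ?_ }, hys⟩
  · obtain ⟨⟨b, ⟨_, n, rfl⟩⟩, hb⟩ := IsLocalization.surj (Submonoid.powers s) a
    have hz0 : algebraMap Γ(C, U₁.1) Γ(C, U.1) (b * z) = 0 := by
      rw [map_mul, ← hb]
      show _ * fres C hU1 z = 0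
      linear_combination (fres C hU1 (s ^ n)) * ha
    obtain ⟨⟨_, m, rfl⟩, hm⟩ := (IsLocalization.map_eq_zero_iff (Submonoid.powers s) Γ(C, U.1) _).1 hz0
    have hmem : s ^ m * b ∈ I.ideal U₁ := hann _ (by rw [Nat.add_one_sub_one, pow_one, mul_assoc]; exact hm)
    have hmap : algebraMap Γ(C, U₁.1) Γ(C, U.1) (s ^ m * b) ∈ I.ideal U := by
      rw [← I.map_ideal (U := U) (V := U₁) hU1]
      exact Ideal.mem_map_of_mem _ hmem
    rw [map_mul, ← hb] at hmap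
    have hu : ∀ j : ℕ, IsUnit (algebraMap Γ(C, U₁.1) Γ(C, U.1) (s ^ j)) := fun j =>
      IsLocalization.map_units Γ(C, U.1) (⟨s ^ j, j, rfl⟩ : Submonoid.powers s)
    rw [Ideal.unit_mul_mem_iff_mem _ (hu m), Ideal.mul_unit_mem_iff_mem _ (hu n)] at hmap
    exact hmap
  · rw [hf]
    exact GrothLib.BlowUp.mem_nonZeroDivisors_of_flat _ (GrothLib.BlowUp.flat_res hW') hgn
  · rw [← δ.map_ideal (U := W') (V := W) hW', hg, Ideal.map_span, Set.image_singleton, hf]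
    rfl

namespace Pair

variable {I δ} (P : Pair I δ)

theorem z_mem : P.z ∈ I.ideal P.U := P.hz ▸ Ideal.mem_span_singleton_self P.z

theorem app_eq_zero_iff (a : Γ(C, P.U.1)) : I.subschemeι.app P.U.1 a = 0 ↔ a ∈ I.ideal P.U := by
  rw [← RingHom.mem_ker (f := (I.subschemeι.app P.U.1).hom), I.ker_subschemeι_app]

theorem f_mem : P.f ∈ (centre I δ).ideal P.U := by
  rw [centre_ideal, Ideal.mem_comap, P.hf]
  exact Ideal.mem_span_singleton_self _

theorem le_centre : I.ideal P.U ≤ (centre I δ).ideal P.U := fun a ha => by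
  rw [centre_ideal, Ideal.mem_comap, (P.app_eq_zero_iff a).2 ha]
  exact Submodule.zero_mem _

theorem centre_eq : (centre I δ).ideal P.U = Ideal.span {P.f} ⊔ I.ideal P.U := by
  refine le_antisymm (fun a ha => ?_) (sup_le ((Ideal.span_singleton_le_iff_mem _).2 P.f_mem) P.le_centre)
  rw [centre_ideal, Ideal.mem_comap, P.hf, Ideal.mem_span_singleton'] at ha
  obtain ⟨c, hc⟩ := ha
  obtain ⟨c, rfl⟩ := I.subschemeι.app_surjective P.U.1 P.U.2 c
  refine Submodule.mem_sup.2 ⟨c * P.f, Ideal.mem_span_singleton'.2 ⟨c, rfl⟩, a - c * P.f, ?_, by ring⟩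
  rw [← P.app_eq_zero_iff, map_sub, map_mul]
  exact sub_eq_zero.2 hc.symm

theorem z_sq (hI : I ^ 2 = ⊥) : P.z * P.z = 0 := SqZero11.mul_eq_zero_of_mem I hI P.U P.z_mem P.z_mem

theorem sq (hI : I ^ 2 = ⊥) {a b : Γ(C, P.U.1)} (ha : a ∈ I.ideal P.U) (hb : b ∈ I.ideal P.U) : a * b = 0 :=
  SqZero11.mul_eq_zero_of_mem I hI P.U ha hb

theorem pow_le (hI : I ^ 2 = ⊥) (m : ℕ) (x : Γ(C, P.U.1)) (hx : x ∈ (centre I δ).ideal P.U ^ m) :
    ∃ a i, i ∈ I.ideal P.U ∧ x * P.f = P.f ^ m * (a * P.f + i) := by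
  induction m generalizing x with
  | zero => exact ⟨x, 0, Submodule.zero_mem _, by ring⟩
  | succ m ih =>
    rw [pow_succ] at hx
    refine Submodule.mul_induction_on hx (fun y hy w hw => ?_) fun y w ⟨a, i, hi, h⟩ ⟨a', i', hi', h'⟩ =>
      ⟨a + a', i + i', add_mem hi hi', by linear_combination h + h'⟩
    obtain ⟨a, i, hi, h⟩ := ih y hy
    rw [P.centre_eq, Submodule.mem_sup] at hw
    obtain ⟨cf, hcf, i', hi', rfl⟩ := hw
    obtain ⟨c, rfl⟩ := Ideal.mem_span_singleton'.1 hcf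
    refine ⟨a * c, i * c + a * i', add_mem (Ideal.mul_mem_right _ _ hi) (Ideal.mul_mem_left _ _ hi'), ?_⟩
    linear_combination (c * P.f + i') * h + P.f ^ m * P.sq hI hi hi'

end Pair

/-- The data of the lift of the reduced subscheme to the blow-up. -/
structure Lift (X : Scheme.{u}) (b : X ⟶ C) where
  hb : _root_.BlowUp.IsBlowUp b (centre I δ)
  j : I.subscheme ⟶ X
  hj : j ≫ b = I.subschemeι

namespace Lift

variable {I δ} {X : Scheme.{u}} {b : X ⟶ C} (T : Lift I δ X b)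

theorem preimage_j (U : C.Opens) : T.j ⁻¹ᵁ (b ⁻¹ᵁ U) = I.subschemeι ⁻¹ᵁ U := by
  rw [← Scheme.Hom.comp_preimage, T.hj]

/-- The restriction to the reduced subscheme of a function above `U`. -/
def eps (U : C.Opens) : Γ(X, b ⁻¹ᵁ U) →+* Γ(I.subscheme, I.subschemeι ⁻¹ᵁ U) :=
  (T.j.appLE (b ⁻¹ᵁ U) (I.subschemeι ⁻¹ᵁ U) (T.preimage_j U).ge).hom

theorem eps_app (U : C.Opens) (a : Γ(C, U)) : T.eps U (b.app U a) = I.subschemeι.app U a := by
  show T.j.appLE _ _ _ (b.app U a) = _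
  rw [Scheme.Hom.app_eq_appLE, ← CommRingCat.comp_apply, Scheme.Hom.appLE_comp_appLE]
  have key : ∀ (m : I.subscheme ⟶ C) (h : m = I.subschemeι) (e : I.subschemeι ⁻¹ᵁ U ≤ m ⁻¹ᵁ U),
      m.appLE U _ e a = I.subschemeι.app U a := by
    rintro m rfl e
    rw [Scheme.Hom.app_eq_appLE]
  exact key _ T.hj _

include T in
theorem chart (hI : I ^ 2 = ⊥) (P : Pair I δ) :
    IsAffineOpen (b ⁻¹ᵁ P.U.1) ∧ b.app P.U.1 P.f ∈ nonZeroDivisors Γ(X, b ⁻¹ᵁ P.U.1) ∧
      (∀ k, ∃ a i, i ∈ I.ideal P.U ∧ k * b.app P.U.1 P.f = b.app P.U.1 (a * P.f + i)) ∧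
      ∃ z', z' * b.app P.U.1 P.f = b.app P.U.1 P.z := by
  obtain ⟨V, hVU, hgen, hnum, hcov, hbas⟩ := Nagata6.exists_charts T.hb P.U
  let F : (centre I δ).ideal P.U := ⟨P.f, P.f_mem⟩
  have hall : ∀ g, (V g).1 ≤ (V F).1 := by
    intro g
    let β : Γ(C, P.U.1) →+* Γ(X, (V g).1) := (b.appLE P.U.1 (V g).1 (hVU g)).hom
    let G := β (g : Γ(C, P.U.1))
    have hmem : ∀ y ∈ (centre I δ).ideal P.U, ∃ φ, β y = φ * G := fun y hy => by
      have h : β y ∈ ((centre I δ).comap b).ideal (V g) := by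
        rw [GrothLib.BlowUp.ideal_comap_eq_map _ b P.U (V g) (hVU g)]
        exact Ideal.mem_map_of_mem _ hy
      rw [(hgen g).2, Ideal.mem_span_singleton'] at h
      obtain ⟨φ, hφ⟩ := h
      exact ⟨φ, hφ.symm⟩
    obtain ⟨φ, hφ⟩ := hmem P.f P.f_mem
    have hg : (g : Γ(C, P.U.1)) ∈ Ideal.span {P.f} ⊔ I.ideal P.U := P.centre_eq.le g.2
    rw [Submodule.mem_sup] at hg
    obtain ⟨cf, hcf, i, hi, hgi⟩ := hg
    obtain ⟨c, rfl⟩ := Ideal.mem_span_singleton'.1 hcf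
    obtain ⟨ψ, hψ⟩ := hmem i (P.le_centre hi)
    have hG : G ∈ nonZeroDivisors Γ(X, (V g).1) := (hgen g).1
    have h1 : ψ * ψ = 0 := by
      refine (mem_nonZeroDivisors_iff_right.1 (mul_mem hG hG)) _ ?_
      have : β i * β i = 0 := by rw [← map_mul, P.sq hI hi hi, map_zero]
      rw [hψ] at this
      linear_combination this
    have h2 : β c * φ = 1 - ψ := by
      refine sub_eq_zero.1 ((mem_nonZeroDivisors_iff_right.1 hG) _ ?_)
      have h3 : β (c * P.f) + β i = G := by rw [← map_add, hgi]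
      rw [map_mul, hφ, hψ] at h3
      linear_combination h3
    have hu : IsUnit φ := IsUnit.of_mul_eq_one (β c * (1 + ψ)) (by linear_combination (1 + ψ) * h2 - h1)
    intro x hx
    exact hbas F g φ hφ (by rwa [Scheme.basicOpen_of_isUnit _ hu])
  have hV : (V F).1 = b ⁻¹ᵁ P.U.1 := le_antisymm (hVU F) fun x hx => by
    obtain ⟨g, hg⟩ := hcov x hx
    exact hall g hg
  suffices H : ∀ (W : X.Opens) (hW : W ≤ b ⁻¹ᵁ P.U.1), W = (V F).1 →
      IsAffineOpen W ∧ b.appLE P.U.1 W hW P.f ∈ nonZeroDivisors Γ(X, W) ∧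
      (∀ k, ∃ a i, i ∈ I.ideal P.U ∧ k * b.appLE P.U.1 W hW P.f = b.appLE P.U.1 W hW (a * P.f + i)) ∧
      ∃ z', z' * b.appLE P.U.1 W hW P.f = b.appLE P.U.1 W hW P.z by
    have := H _ le_rfl hV.symm
    simpa only [Scheme.Hom.app_eq_appLE] using this
  rintro _ hW rfl
  let β : Γ(C, P.U.1) →+* Γ(X, (V F).1) := (b.appLE P.U.1 (V F).1 hW).hom
  refine ⟨(V F).2, (hgen F).1, fun k => ?_, ?_⟩
  · obtain ⟨m, x, hx, hxk⟩ := hnum F k
    obtain ⟨a, i, hi, h⟩ := P.pow_le hI m x hx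
    refine ⟨a, i, hi, ?_⟩
    have hpow : β P.f ^ m ∈ nonZeroDivisors Γ(X, (V F).1) := pow_mem (hgen F).1 m
    show k * β P.f = β (a * P.f + i)
    refine sub_eq_zero.1 ((mem_nonZeroDivisors_iff_right.1 hpow) _ ?_)
    have h4 := congrArg β h
    rw [map_mul, map_mul, map_pow, show β x = k * β P.f ^ m from hxk] at h4
    linear_combination h4
  · have h : β P.z ∈ ((centre I δ).comap b).ideal (V F) := by
      rw [GrothLib.BlowUp.ideal_comap_eq_map _ b P.U (V F) (hVU F)]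
      exact Ideal.mem_map_of_mem _ (P.le_centre P.z_mem)
    rw [(hgen F).2, Ideal.mem_span_singleton'] at h
    exact h

theorem eps_z' (hI : I ^ 2 = ⊥) (P : Pair I δ) {z' : Γ(X, b ⁻¹ᵁ P.U.1)}
    (hz' : z' * b.app P.U.1 P.f = b.app P.U.1 P.z) : T.eps P.U.1 z' = 0 := by
  refine (mem_nonZeroDivisors_iff_right.1 P.nzd) _ ?_
  rw [← T.eps_app, ← map_mul, hz', T.eps_app]
  exact (P.app_eq_zero_iff _).2 P.z_mem

theorem eq_mul_z' (hI : I ^ 2 = ⊥) (P : Pair I δ) {z' : Γ(X, b ⁻¹ᵁ P.U.1)}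
    (hz' : z' * b.app P.U.1 P.f = b.app P.U.1 P.z) {k : Γ(X, b ⁻¹ᵁ P.U.1)} (hk : T.eps P.U.1 k = 0) :
    ∃ a, k = b.app P.U.1 a * z' := by
  obtain ⟨-, hn, hnum, -⟩ := T.chart hI P
  obtain ⟨a, i, hi, h⟩ := hnum k
  have h1 := congrArg (T.eps P.U.1) h
  rw [map_mul, hk, zero_mul, T.eps_app, map_add, (P.app_eq_zero_iff i).2 hi, add_zero, map_mul] at h1
  have ha : a ∈ I.ideal P.U := (P.app_eq_zero_iff a).1 ((mem_nonZeroDivisors_iff_right.1 P.nzd) _ h1.symm)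
  have hai : a * P.f + i ∈ I.ideal P.U := add_mem (Ideal.mul_mem_right _ _ ha) hi
  rw [P.hz, Ideal.mem_span_singleton'] at hai
  obtain ⟨c, hc⟩ := hai
  refine ⟨c, sub_eq_zero.1 ((mem_nonZeroDivisors_iff_right.1 hn) _ ?_)⟩
  rw [sub_mul, h, mul_assoc, hz', ← map_mul, hc, sub_self]

theorem eps_of_mul_z' (hI : I ^ 2 = ⊥) (P : Pair I δ) {z' : Γ(X, b ⁻¹ᵁ P.U.1)}
    (hz' : z' * b.app P.U.1 P.f = b.app P.U.1 P.z) {y : Γ(X, b ⁻¹ᵁ P.U.1)} (hy : y * z' = 0) :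
    T.eps P.U.1 y = 0 := by
  obtain ⟨-, -, hnum, -⟩ := T.chart hI P
  obtain ⟨a, i, hi, h⟩ := hnum y
  have h0 : b.app P.U.1 (a * P.f * P.z) = 0 := by
    have h1 : b.app P.U.1 ((a * P.f + i) * P.z) = 0 := by
      rw [map_mul, ← h, ← hz']
      linear_combination (b.app P.U.1 P.f * b.app P.U.1 P.f) * hy
    rwa [add_mul, P.sq hI hi P.z_mem, add_zero] at h1
  obtain ⟨M, hM⟩ := BlowPB8.exists_pow_mul_eq_zero T.hb P.U ⟨P.f, P.f_mem⟩ (a * P.f * P.z)
    (W := b ⁻¹ᵁ P.U.1) le_rfl (b.preimage_mono (C.basicOpen_le _)) (by rw [← Scheme.Hom.app_eq_appLE]; exact h0)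
  have h2 : P.f ^ (M + 1) * a ∈ I.ideal P.U := P.ann _ (by linear_combination hM)
  rw [← P.app_eq_zero_iff, map_mul, map_pow] at h2
  have ha : I.subschemeι.app P.U.1 a = 0 :=
    (mem_nonZeroDivisors_iff_left.1 (pow_mem P.nzd (M + 1))) _ h2
  refine (mem_nonZeroDivisors_iff_right.1 P.nzd) _ ?_
  rw [← T.eps_app, ← map_mul, h, T.eps_app, map_add, map_mul, ha, (P.app_eq_zero_iff i).2 hi, zero_mul, add_zero]

end Lift

end GrothLib.RibBlow10
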