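import Groth.Agent.Lib.RibBlow10.Local
import Groth.Agent.Lib.RibBlow10.Gen
import Groth.Agent.Lib.RibBlow10.Mods
import Groth.Agent.Lib.BlowUp6.Separated
import Groth.Agent.Lib.ConStalk4.Maps
import Groth.Agent.Lib.RelProjK.Local
import Groth.Agent.S9371

/-!
# The blow-up of a ribbon along a divisor is a ribbon
-/

set_option autoImplicit false
set_option linter.all false
set_option backward.isDefEq.respectTransparency false
set_option maxHeartbeats 1000000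

universe u

open CategoryTheory CategoryTheory.Limits AlgebraicGeometry TopologicalSpace Opposite
open GrothLib.InvExt GrothLib.IdealModSec

noncomputable section

namespace GrothLib.RibBlow10

variable {C : Scheme.{u}} {I : C.IdealSheafData} {δ : I.subscheme.IdealSheafData}
variable {X : Scheme.{u}} {b : X ⟶ C} (T : Lift I δ X b)

theorem Lift.isClosedImmersion : IsClosedImmersion T.j := by
  haveI : IsSeparated b := GrothLib.BlowUp6.isSeparated_of_isBlowUp T.hb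
  haveI : IsClosedImmersion (T.j ≫ b) := by rw [T.hj]; infer_instance
  exact IsClosedImmersion.of_comp T.j b

theorem Lift.eps_eq_zero_iff (U : C.Opens) (k : Γ(X, b ⁻¹ᵁ U)) : T.eps U k = 0 ↔ T.j.app (b ⁻¹ᵁ U) k = 0 := by
  show I.subscheme.presheaf.map (homOfLE (T.preimage_j U).ge).op (T.j.app (b ⁻¹ᵁ U) k) = 0 ↔ _
  refine ⟨fun h => ?_, fun h => by rw [h]; exact map_zero _⟩
  have h2 := congrArg (fres I.subscheme (T.preimage_j U).le) h
  exact ((fres_fres _ _ _).trans (fres_self _)).symm.trans (h2.trans (map_zero _))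

/-- The affine open above a pair. -/
def Lift.above (hI : I ^ 2 = ⊥) (P : Pair I δ) : X.affineOpens := ⟨b ⁻¹ᵁ P.U.1, (T.chart hI P).1⟩

theorem Lift.mem_ker_iff (hI : I ^ 2 = ⊥) (P : Pair I δ) (k : Γ(X, b ⁻¹ᵁ P.U.1)) :
    k ∈ T.j.ker.ideal (T.above hI P) ↔ T.eps P.U.1 k = 0 := by
  haveI := T.isClosedImmersion
  rw [Scheme.Hom.ker_apply, RingHom.mem_ker, T.eps_eq_zero_iff]
  rfl

theorem Lift.ker_eq (hI : I ^ 2 = ⊥) (P : Pair I δ) {z' : Γ(X, b ⁻¹ᵁ P.U.1)}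
    (hz' : z' * b.app P.U.1 P.f = b.app P.U.1 P.z) : T.j.ker.ideal (T.above hI P) = Ideal.span {z'} := by
  refine le_antisymm (fun k hk => ?_) ((Ideal.span_singleton_le_iff_mem _).2 ((T.mem_ker_iff hI P _).2 (T.eps_z' hI P hz')))
  obtain ⟨a, rfl⟩ := T.eq_mul_z' hI P hz' ((T.mem_ker_iff hI P _).1 hk)
  exact Ideal.mem_span_singleton'.2 ⟨_, rfl⟩

theorem Lift.ker_sq (hI : I ^ 2 = ⊥) (hcov : ∀ x : C, ∃ P : Pair I δ, x ∈ P.U.1) : T.j.ker ^ 2 = ⊥ := by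
  refine Scheme.IdealSheafData.ext_of_iSup_eq_top (fun P : Pair I δ => T.above hI P) (top_unique fun x _ => ?_) fun P => ?_
  · obtain ⟨P, hP⟩ := hcov (b x)
    exact Opens.mem_iSup.2 ⟨P, hP⟩
  · obtain ⟨-, hn, -, z', hz'⟩ := T.chart hI P
    simp only [Scheme.IdealSheafData.ideal_pow, Scheme.IdealSheafData.ideal_bot, Pi.bot_apply, Pi.pow_apply]
    rw [T.ker_eq hI P hz', Ideal.span_singleton_pow, Ideal.span_singleton_eq_bot]
    refine (mem_nonZeroDivisors_iff_right.1 (mul_mem hn hn)) _ ?_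
    rw [show z' ^ 2 * (b.app P.U.1 P.f * b.app P.U.1 P.f) =
      (z' * b.app P.U.1 P.f) * (z' * b.app P.U.1 P.f) by ring, hz', ← map_mul, P.z_sq hI, map_zero]

theorem conormalMap_value {D : Scheme.{u}} (j : D ⟶ X) (i : D ⟶ C) [IsImmersion i] [QuasiCompact i] [IsImmersion j]
    [QuasiCompact j] (h : j ≫ b = i) :
    ∃ κ : Omega.conormal i ⟶ Omega.conormal j, ∀ (U : C.Opens) (m : Γ(ClSub.idealMod i.ker, U)),
      ∃ s : Γ(ClSub.idealMod j.ker, b ⁻¹ᵁ U), val j.ker _ s = b.app U (val i.ker U m) ∧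
        ∀ (e : i ⁻¹ᵁ U ≤ j ⁻¹ᵁ (b ⁻¹ᵁ U)),
          κ.app (i ⁻¹ᵁ U) (OmegaSh.conormalSect i U m) =
            mres (Omega.conormal j) e (OmegaSh.conormalSect j (b ⁻¹ᵁ U) s) := by
  subst h
  obtain ⟨ψ, hψ, -⟩ := Groth.Agent.S9371.result j (j ≫ b) b (𝟙 D) (Category.id_comp _)
  refine ⟨(Scheme.Modules.pullbackId D).inv.app (Omega.conormal (j ≫ b)) ≫ ψ, fun U m => ?_⟩
  obtain ⟨s, hs, h'⟩ := ConStalk4.conormalMap_app b j ψ hψ U m
  exact ⟨s, hs, fun e => h'.trans (InvExt.mres_self _ _).symm⟩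

/-- The conclusion. -/
theorem exists_result (hI : I ^ 2 = ⊥) (hinv : PicF.IsInvertible (Omega.conormal I.subschemeι))
    (hδ : _root_.BlowUp.IsEffCartierIdeal δ) (M : I.subscheme.Modules) (hM : ClSub.IsInverseOf M (ClSub.idealMod δ))
    (X : Scheme.{u}) (b : X ⟶ C) (hb : _root_.BlowUp.IsBlowUp b (centre I δ)) :
    ∃ (j : I.subscheme ⟶ X), IsClosedImmersion j ∧ j.ker ^ 2 = ⊥ ∧ j ≫ b = I.subschemeι ∧
      Nonempty (Omega.conormal j ≅ CohB1.tensorMod (Omega.conormal I.subschemeι) M) := by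
  have hP := SqZero11.isPrincipal_of_isInvertible I hI hinv
  have hcov : ∀ x : C, ∃ P : Pair I δ, x ∈ P.U.1 := exists_pair I δ hI hP hδ
  obtain ⟨j, hj, -⟩ := hb.2 I.subscheme I.subschemeι (by rw [centre_comap]; exact hδ)
  let T : Lift I δ X b := ⟨hb, j, hj⟩
  haveI : IsClosedImmersion j := T.isClosedImmersion
  have hJ : j.ker ^ 2 = ⊥ := T.ker_sq hI hcov
  refine ⟨j, ‹_›, hJ, hj, ?_⟩
  let ι := I.subschemeι
  have hker : ι.ker = I := Scheme.IdealSheafData.ker_subschemeι I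
  have hI' : ι.ker ^ 2 = ⊥ := by rw [hker]; exact hI
  obtain ⟨κ, hκ⟩ := conormalMap_value j ι hj
  have hchart : ∀ P : Pair I δ, ∃ (e : Γ(Omega.conormal ι, ι ⁻¹ᵁ P.U.1)) (e' : Γ(Omega.conormal j, ι ⁻¹ᵁ P.U.1))
      (d : Γ(ClSub.idealMod δ, ι ⁻¹ᵁ P.U.1)), IsGen (Omega.conormal ι) _ e ∧ IsGen (Omega.conormal j) _ e' ∧
        IsGen (ClSub.idealMod δ) _ d ∧ κ.app _ e = val δ _ d • e' := by
    intro P
    obtain ⟨-, hn, -, z', hz'⟩ := T.chart hI P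
    have hzI : P.z ∈ ι.ker.ideal P.U := by rw [hker]; exact P.z_mem
    obtain ⟨g, hg⟩ := exists_val_eq ι.ker P.U hzI
    obtain ⟨(g' : Γ(ClSub.idealMod j.ker, b ⁻¹ᵁ P.U.1)), (hg' : val j.ker (b ⁻¹ᵁ P.U.1) g' = z')⟩ :=
      exists_val_eq j.ker (T.above hI P) ((T.mem_ker_iff hI P z').2 (T.eps_z' hI P hz'))
    obtain ⟨d, hd⟩ := exists_val_eq δ ⟨ι ⁻¹ᵁ P.U.1, P.U.2.preimage _⟩
      (show ι.app P.U.1 P.f ∈ _ from P.hf ▸ Ideal.mem_span_singleton_self _)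
    have hgen : IsGen (Omega.conormal ι) (ι ⁻¹ᵁ P.U.1) (OmegaSh.conormalSect ι P.U.1 g) := by
      refine isGen_conormalSect ι hI' P.U g ?_ fun a ha => ?_
      · rw [hg, hker]; exact P.hz
      · rw [hker]
        exact P.ann a (by rwa [hg, Nat.add_one_sub_one, pow_one] at ha)
    have hgen' : IsGen (Omega.conormal j) (j ⁻¹ᵁ (b ⁻¹ᵁ P.U.1)) (OmegaSh.conormalSect j (b ⁻¹ᵁ P.U.1) g') := by
      refine isGen_conormalSect j hJ (T.above hI P) g' ?_ fun a ha => ?_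
      · show j.ker.ideal (T.above hI P) = Ideal.span {val j.ker (b ⁻¹ᵁ P.U.1) g'}
        rw [hg']; exact T.ker_eq hI P hz'
      · change a * val j.ker (b ⁻¹ᵁ P.U.1) g' ^ (2 - 1) = 0 at ha
        rw [hg', Nat.add_one_sub_one, pow_one] at ha
        exact (T.mem_ker_iff hI P a).2 (T.eps_of_mul_z' hI P hz' ha)
    have hle : ι ⁻¹ᵁ P.U.1 ≤ j ⁻¹ᵁ (b ⁻¹ᵁ P.U.1) := (T.preimage_j P.U.1).ge
    refine ⟨_, mres _ hle (OmegaSh.conormalSect j (b ⁻¹ᵁ P.U.1) g'), d, hgen, hgen'.restrict hle,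
      isGen_of_cartierOn (U := ⟨ι ⁻¹ᵁ P.U.1, P.U.2.preimage _⟩) (hd ▸ P.nzd) (hd ▸ P.hf), ?_⟩
    obtain ⟨s, hs, hsv⟩ := hκ P.U.1 g
    rw [hsv hle]
    have hsg : s = b.app P.U.1 P.f • g' := by
      refine val_injective j.ker _ ?_
      rw [hs, val_smul, hg]
      refine hz'.symm.trans ((mul_comm _ _).trans ?_)
      exact congrArg (b.app P.U.1 P.f * ·) hg'.symm
    rw [hsg, conormalSect_smul, InvExt.mres_smul]
    refine congrArg (· • _) ?_
    exact (T.eps_app P.U.1 P.f).trans hd.symm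
  choose e e' d he he' hd hκe using hchart
  exact nonempty_iso_tensor δ κ (fun P : Pair I δ => ι ⁻¹ᵁ P.U.1) (fun x => hcov (ι x)) e he e' he' d hd hκe M hM

end GrothLib.RibBlow10
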